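import Cfsg.Agent.H129.StTwT
import Cfsg.Agent.H795.Tw

/-!
# S4822, AO7: centralizers of toral Sylow subgroups cover the diagonal automorphisms

* `exists_not_mem` : a twisted torus is not contained in the image of the finite group (the proof of helper129's
  `not_mem_range'`);
* `exists_pow_of_split` : the fixed points modulo the finite group are cyclic of prime order;
* `exists_cen` : some fixed point centralises the toral Sylow subgroup and does not lie in the finite group;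
* `act_inner` : all fixed points act on the Sylow subgroup as elements of the finite group.
-/

set_option autoImplicit false
set_option linter.unusedSectionVars false

namespace Cfsg.Agent.H299.AO

open CoxeterSystem Cfsg Cfsg.Lie Cfsg.Lie.ChevalleyDatum
open Cfsg.Agent.ChevalleyStructure Cfsg.Agent.ChevalleyStructure.Elts Cfsg.Agent.ChevalleyStructure.CoxeterGeom
  Cfsg.Agent.ChevalleyStructure.CoxeterGeomTypes Cfsg.Agent.ChevalleyStructure.NPerm
open Cfsg.Agent.Tits.Roots Cfsg.Agent.Tits.Core Cfsg.Agent.Nodes Cfsg.Agent.Nodes.Reps Cfsg.Agent.Nodes.BNOf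
  Cfsg.Agent.Nodes.RGDChev Cfsg.Agent.Nodes.Bruhat Cfsg.Agent.Nodes.SubComb Cfsg.Agent.Nodes.Coroot
open Cfsg.Agent.KFacts.RgdField Cfsg.Agent.KFacts.RgdChevCoord Cfsg.Agent.BpExc.TorCent Cfsg.Agent.BpExc.TorChev
open Cfsg.Agent.GpExc.Field Cfsg.Agent.BpExc.Tow Cfsg.Agent.BpExc.TowChev Cfsg.Agent.BpExc.Fr
  Cfsg.Agent.BpExc.LangFr Cfsg.Agent.LangThm Cfsg.Agent.BpExc Cfsg.Agent.H129.TorusChar Cfsg.Agent.H129.TorusCent
  Cfsg.Agent.H129.TorusTw Cfsg.Agent.H129.TorusMain Cfsg.Agent.H129.TorusUntw Cfsg.Agent.H129.TorAct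
  Cfsg.Agent.H129.WData Cfsg.Agent.H129.StCover Cfsg.Agent.H129.StTw Cfsg.Agent.BpExc.EmbInst
open Cfsg.Agent.ChevalleyStructure.StBasic Cfsg.Agent.ChevalleyStructure.StTheta
open Cfsg.Agent.H795.Reduce Cfsg.Agent.H795.Core

universe u v

section Main

variable {D : ChevalleyDatum} {l : ℕ} {M : CoxeterMatrix (Fin l)} (hp : IsType D l M) {k : Type u} [Field k]
  [IsAlgClosed k] {W : Type*} [Group W] (cs : CoxeterSystem M W)
  {Φ : (Fin D.rank → kˣ) →* D.SteinbergGroup k} (hΦ : IsPhi Φ)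

include hp cs hΦ in
/-- **A twisted torus is not contained in the image of the finite group** (`Ψ` lifts `σ` to the Steinberg
group and is trivial on its centre, which is not trivial; the elements of the finite group lift to fixed elements). -/
theorem exists_not_mem {G0 : Type*} [Group G0] (e0 : G0 →* ↥(D.group k)) (σ : MulAut ↥(D.group k))
    (Ψ : D.SteinbergGroup k →* D.SteinbergGroup k) (hθΨ : ∀ x, theta hp.inList k (Ψ x) = σ (theta hp.inList k x))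
    {P : Matrix (Fin D.rank) (Fin D.rank) ℤ} {q : ℕ} (hq2 : 2 ≤ q)
    (hΨ : ∀ b, Ψ (Φ b) = Φ (mAct P (fun i => b i ^ q)))
    (hcen : ∀ κ ∈ Subgroup.center (D.SteinbergGroup k), Ψ κ = κ)
    (hlift : ∀ x : G0, ∃ x', Ψ x' = x' ∧ theta hp.inList k x' = e0 x)
    {c : Fin D.rank → kˣ} (hc : ∀ s < D.nroots, ∏ i : Fin D.rank, c i ^ D.cartan i s = 1) (hc1 : c ≠ 1)
    {hN : NSys M (TT D k) (nc hp k)} {w : W} {n z : ↥(D.group k)} (hn : Rp cs hN w n)
    (hz : n = z⁻¹ * σ z) :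
    ∃ s ∈ TT D k, n * σ s * n⁻¹ = s ∧ z * s * z⁻¹ ∉ e0.range := by
  have hD := hp.inList
  -- the representative
  obtain ⟨ω, rfl⟩ := cs.wordProd_surjective w
  have hrp : Rp cs hN (cs.wordProd ω) (theta hD k (nW D k ω)) := by
    clear hn
    induction ω with
    | nil =>
      rw [wordProd_nil]
      have : theta hD k (nW D k ([] : List (Fin l))) = 1 := by simp [nW]
      rw [this]
      exact rp_one
    | cons i ω ih =>
      rw [wordProd_cons, nW_cons, map_mul, theta_stn_simple hp]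
      exact (rp_simple cs hN i).mul ih
  have ht0 : (theta hD k (nW D k ω))⁻¹ * n ∈ TT D k := hrp.unique hn
  obtain ⟨A, hA⟩ := exists_matrix hD hΦ (lt_rank hp) ω
  -- the solution
  obtain ⟨b, hb⟩ := exists_solution (A * P) hq2 c
  rw [mAct_mul] at hb
  have hσb : Ψ (Φ b) = Φ (mAct P (fun i => b i ^ q)) := hΨ b
  have hτ : nW D k ω * Ψ (Φ b) * (nW D k ω)⁻¹ = Φ b * Φ c := by
    rw [hσb, hA, hb, map_mul]
  have hcc : Φ c ∈ Subgroup.center (D.SteinbergGroup k) := (hΦ.mem_iff c).2 hc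
  have hθc : theta hD k (Φ c) = 1 := by
    rw [← MonoidHom.mem_ker, ker_theta hD]; exact hcc
  -- the element `s`
  have hs : theta hD k (Φ b) ∈ TT D k := theta_phi_mem hD hΦ b
  have hσs : σ (theta hD k (Φ b)) ∈ TT D k := by
    rw [← hθΨ, hσb]
    exact theta_phi_mem hD hΦ _
  have hns : n * σ (theta hD k (Φ b)) * n⁻¹ = theta hD k (Φ b) := by
    have h1 := congrArg (theta hD k) hτ
    rw [map_mul, map_mul, map_inv, map_mul, hθc, mul_one, hθΨ] at h1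
    have h2 : n = theta hD k (nW D k ω) * ((theta hD k (nW D k ω))⁻¹ * n) := by group
    have h3 := Cfsg.Agent.BpExc.TorChev.TT_comm hp _ ht0 _ hσs
    rw [h2]
    calc theta hD k (nW D k ω) * ((theta hD k (nW D k ω))⁻¹ * n) * σ (theta hD k (Φ b)) *
          (theta hD k (nW D k ω) * ((theta hD k (nW D k ω))⁻¹ * n))⁻¹
        = theta hD k (nW D k ω) * ((((theta hD k (nW D k ω))⁻¹ * n) * σ (theta hD k (Φ b))) *
          ((theta hD k (nW D k ω))⁻¹ * n)⁻¹) * (theta hD k (nW D k ω))⁻¹ := by group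
      _ = theta hD k (nW D k ω) * σ (theta hD k (Φ b)) * (theta hD k (nW D k ω))⁻¹ := by
        rw [h3]; group
      _ = _ := h1
  refine ⟨_, hs, hns, fun hzs => ?_⟩
  obtain ⟨x, hx⟩ := hzs
  obtain ⟨E, hEfix, hE⟩ := hlift x
  obtain ⟨z', rfl⟩ := theta_surjective hD z
  have hθE : theta hD k E = theta hD k (z' * Φ b * z'⁻¹) := by
    rw [hE, hx, map_mul, map_mul, map_inv]
  have key : ∀ {x y : D.SteinbergGroup k}, theta hD k x = theta hD k y →
      ∃ κ ∈ Subgroup.center (D.SteinbergGroup k), y = x * κ := by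
    intro x y hxy
    refine ⟨x⁻¹ * y, ?_, by group⟩
    rw [← ker_theta hD, MonoidHom.mem_ker, map_mul, map_inv, hxy, inv_mul_cancel]
  obtain ⟨κ, hκ, h1⟩ := key hθE
  -- the lift of `z`
  obtain ⟨a, ha⟩ := exists_theta_phi hΦ hp ht0
  have hθn : theta hD k (nW D k ω * Φ a) = theta hD k (z'⁻¹ * Ψ z') := by
    rw [map_mul, ha, map_mul, map_inv, hθΨ, ← hz]
    group
  obtain ⟨κ', hκ', h2⟩ := key hθn
  have h3 : Ψ z' = z' * (nW D k ω * Φ a * κ') := by rw [← h2]; group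
  have hκc : ∀ x : D.SteinbergGroup k, κ' * x * κ'⁻¹ = x := fun x => by
    rw [← Subgroup.mem_center_iff.1 hκ' x, mul_inv_cancel_right]
  have h4 : Ψ (z' * Φ b * z'⁻¹) = z' * (Φ b * Φ c) * z'⁻¹ := by
    rw [map_mul, map_mul, map_inv, h3, ← hτ]
    have h5 : Φ a * Ψ (Φ b) * (Φ a)⁻¹ = Ψ (Φ b) := by
      rw [hσb, ← map_mul, ← map_inv, ← map_mul]
      congr 1
      exact mul_inv_cancel_comm _ _
    calc z' * (nW D k ω * Φ a * κ') * Ψ (Φ b) * (z' * (nW D k ω * Φ a * κ'))⁻¹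
        = z' * (nW D k ω * (Φ a * (κ' * Ψ (Φ b) * κ'⁻¹) * (Φ a)⁻¹) * (nW D k ω)⁻¹) * z'⁻¹ := by group
      _ = z' * (nW D k ω * Ψ (Φ b) * (nW D k ω)⁻¹) * z'⁻¹ := by rw [hκc, h5]
  rw [h1, map_mul, hEfix, hcen κ hκ, ← h1] at h4
  have h5 : Φ c = 1 := by
    have h6 : z' * Φ b * z'⁻¹ = z' * Φ b * Φ c * z'⁻¹ := by rw [h4]; group
    have h7 := mul_right_cancel h6
    exact (mul_eq_left.1 h7.symm)
  exact hc1 (hΦ.inj (by rw [h5, map_one]))

end Main

/-! ### the index -/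

/-- **The fixed points modulo the finite group have order `1` or `m`.** -/
theorem exists_pow_of_split {Y : Type*} [Group Y] {σ : MulAut Y} {G0 : Type*} [Group G0] {e0 : G0 →* Y}
    (hnorm : ∀ t, σ t = t → ∀ x, ∃ x', e0 x' = t * e0 x * t⁻¹) {A : Subgroup Y}
    (hA : ∀ t ∈ A, σ t = t) (hfinA : Finite ↥A) (hsplit : ∀ y, σ y = y → ∃ x, ∃ t ∈ A, y = e0 x * t)
    {H : Subgroup Y} (hHA : H ≤ A) (hHR : H ≤ e0.range) {m : ℕ} (hm : m.Prime)
    (hc : Nat.card ↥A ∣ m * Nat.card ↥H) {y0 : Y} (hy0 : σ y0 = y0) (h0 : y0 ∉ e0.range) {y : Y} (hy : σ y = y) :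
    ∃ (s : G0) (j : ℕ), y = e0 s * y0 ^ j := by
  classical
  let V : Subgroup Y := σ.toMonoidHom.eqLocus (MonoidHom.id _)
  have hV : ∀ z, z ∈ V ↔ σ z = z := fun z => Iff.rfl
  let R : Subgroup ↥V := e0.range.subgroupOf V
  have hR : ∀ z : ↥V, z ∈ R ↔ ∃ x, e0 x = z := fun z => Iff.rfl
  have hRn : R.Normal := by
    refine ⟨fun z hz t => ?_⟩
    obtain ⟨x, hx⟩ := (hR z).1 hz
    obtain ⟨x', hx'⟩ := hnorm t t.2 x
    exact (hR _).2 ⟨x', by rw [hx', hx]; rfl⟩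
  let π : ↥A →* ↥V ⧸ R := (QuotientGroup.mk' R).comp (Subgroup.inclusion (fun t ht => (hA t ht : t ∈ V)))
  have hπ : Function.Surjective π := by
    intro z
    obtain ⟨z, rfl⟩ := QuotientGroup.mk_surjective z
    obtain ⟨x, t, ht, e⟩ := hsplit z z.2
    refine ⟨⟨t, ht⟩, ?_⟩
    refine QuotientGroup.eq.2 ?_
    obtain ⟨x', hx'⟩ := hnorm t⁻¹ (by rw [map_inv, hA t ht]) x
    refine (hR _).2 ⟨x', ?_⟩
    rw [hx']
    show t⁻¹ * e0 x * t⁻¹⁻¹ = t⁻¹ * (z : Y)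
    rw [e, inv_inv]
    group
  have hker : H.subgroupOf A ≤ π.ker := by
    intro t ht
    rw [MonoidHom.mem_ker]
    refine (QuotientGroup.eq_one_iff _).2 ?_
    exact (hR _).2 (hHR ht)
  have hfinV : Finite (↥V ⧸ R) := Finite.of_surjective π hπ
  have hcard : Nat.card (↥V ⧸ R) ∣ m := by
    have h1 : Nat.card (↥V ⧸ R) * Nat.card ↥π.ker = Nat.card ↥A := by
      have h2 := Subgroup.card_eq_card_quotient_mul_card_subgroup π.ker
      rw [h2, Nat.card_congr (QuotientGroup.quotientKerEquivOfSurjective π hπ).toEquiv]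
    have h3 : Nat.card ↥H ∣ Nat.card ↥π.ker := by
      have h4 : Nat.card ↥(H.subgroupOf A) = Nat.card ↥H :=
        Nat.card_congr (Subgroup.subgroupOfEquivOfLe hHA).toEquiv
      rw [← h4]
      exact Subgroup.card_dvd_of_le hker
    obtain ⟨c, hc'⟩ := h3
    have hH0 : 0 < Nat.card ↥H := by
      have : Finite ↥H := Finite.of_injective (Subgroup.inclusion hHA) (Subgroup.inclusion_injective _)
      exact Nat.card_pos
    rw [← h1, hc'] at hc
    have h5 : Nat.card (↥V ⧸ R) * c * Nat.card ↥H ∣ m * Nat.card ↥H := by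
      convert hc using 1
      ring
    exact (Dvd.intro _ rfl : Nat.card (↥V ⧸ R) ∣ Nat.card (↥V ⧸ R) * c).trans (Nat.dvd_of_mul_dvd_mul_right hH0 h5)
  have hne : (QuotientGroup.mk' R ⟨y0, hy0⟩ : ↥V ⧸ R) ≠ 1 := by
    intro h
    exact h0 ((hR _).1 ((QuotientGroup.eq_one_iff _).1 h))
  have hm' : Fact m.Prime := ⟨hm⟩
  have hcard' : Nat.card (↥V ⧸ R) = m := by
    rcases (Nat.dvd_prime hm).1 hcard with h | h
    · exfalso
      have := (Nat.card_eq_one_iff_unique.1 h).1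
      exact hne (Subsingleton.elim _ _)
    · exact h
  obtain ⟨j, hj⟩ := mem_powers_of_prime_card hcard' hne (g' := QuotientGroup.mk' R ⟨y, hy⟩)
  have hj' : QuotientGroup.mk' R (⟨y0, hy0⟩ ^ j) = QuotientGroup.mk' R ⟨y, hy⟩ := by
    rw [map_pow]; exact hj
  have h1 : (⟨y, hy⟩ : ↥V) * (⟨y0, hy0⟩ ^ j)⁻¹ ∈ R := by
    rw [← QuotientGroup.eq_one_iff]
    show QuotientGroup.mk' R _ = 1
    rw [map_mul, map_inv, hj', mul_inv_cancel]
  obtain ⟨s, hs⟩ := (hR _).1 h1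
  refine ⟨s, j, ?_⟩
  rw [hs]
  show y = y * (y0 ^ j)⁻¹ * y0 ^ j
  rw [inv_mul_cancel_right]

/-- all fixed points act on the Sylow subgroups as elements of the finite group -/
theorem act_inner {Y : Type*} [Group Y] {σ : MulAut Y} {G0 : Type*} [Group G0] [Finite G0] {e0 : G0 →* Y}
    (hfix : ∀ x, σ (e0 x) = e0 x) {p : ℕ} [Fact p.Prime] {y0 : Y}
    (hpow : ∀ y, σ y = y → ∃ (s : G0) (j : ℕ), y = e0 s * y0 ^ j) (P' : Sylow p G0)
    (hcen : ∀ x ∈ (P' : Subgroup G0), y0 * e0 x = e0 x * y0) (P : Sylow p G0) {y : Y} (hy : σ y = y) :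
    ∃ s : G0, ∀ x ∈ (P : Subgroup G0), y * e0 x * y⁻¹ = e0 (s * x * s⁻¹) := by
  obtain ⟨g, hg⟩ := MulAction.exists_smul_eq G0 P' P
  have hgP : ∀ x ∈ (P : Subgroup G0), g⁻¹ * x * g ∈ (P' : Subgroup G0) := by
    intro x hx
    rw [← hg, Sylow.coe_subgroup_smul, Subgroup.mem_pointwise_smul_iff_inv_smul_mem, ← map_inv, MulAut.smul_def,
      MulAut.conj_apply, inv_inv] at hx
    exact hx
  obtain ⟨s, j, hs⟩ := hpow (y * e0 g) (by rw [map_mul, hy, hfix])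
  refine ⟨s * g⁻¹, fun x hx => ?_⟩
  have h1 : ∀ i : ℕ, y0 ^ i * e0 (g⁻¹ * x * g) * (y0 ^ i)⁻¹ = e0 (g⁻¹ * x * g) := by
    intro i
    have h2 : Commute (y0 ^ i) (e0 (g⁻¹ * x * g)) := Commute.pow_left (hcen _ (hgP x hx)) i
    rw [h2.eq, mul_inv_cancel_right]
  have h2 : y = e0 s * y0 ^ j * (e0 g)⁻¹ := by rw [← hs]; group
  have h3 : e0 x = e0 g * e0 (g⁻¹ * x * g) * (e0 g)⁻¹ := by
    rw [← map_inv, ← map_mul, ← map_mul]
    congr 1
    group
  have h4 : y * e0 x * y⁻¹ = e0 s * (y0 ^ j * e0 (g⁻¹ * x * g) * (y0 ^ j)⁻¹) * (e0 s)⁻¹ := by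
    rw [h2, h3]
    group
  rw [h4, h1, ← map_inv, ← map_mul, ← map_mul]
  congr 1
  group

section Cen

variable {D : ChevalleyDatum} {l : ℕ} {M : CoxeterMatrix (Fin l)} (hp : IsType D l M) {k : Type u} [Field k]
  [IsAlgClosed k] (hk : LocFin k) {r e : ℕ} [Fact r.Prime] [CharP k r]
  {Φ : (Fin D.rank → kˣ) →* D.SteinbergGroup k} (hΦ : IsPhi Φ)

theorem rp_congr {Y : Type*} [Group Y] {l : ℕ} {M : CoxeterMatrix (Fin l)} {W : Type*} [Group W] {cs : CoxeterSystem M W}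
    {T T' : Subgroup Y} (h : T = T') {n : Fin l → Y} {hN : NSys M T n} {w : W} {y : Y} (hr : Rp cs hN w y) :
    ∃ hN' : NSys M T' n, Rp cs hN' w y := by
  subst h
  exact ⟨hN, hr⟩

include hk hΦ in
/-- **Some fixed point centralises the toral Sylow subgroup and does not lie in the finite group.** -/
theorem exists_cen {G0 : Type v} [Group G0] [Finite G0] {e0 : G0 →* ↥(D.group k)} {σ : MulAut ↥(D.group k)}
    {g : (Fin l → ℤ) ≃+ (Fin l → ℤ)} {p : ℕ} [Fact p.Prime] (hset : Setup hp p r e e0 σ g)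
    (Ψ : D.SteinbergGroup k →* D.SteinbergGroup k) (hθΨ : ∀ x, theta hp.inList k (Ψ x) = σ (theta hp.inList k x))
    {Pm : Matrix (Fin D.rank) (Fin D.rank) ℤ} {q : ℕ} (hq2 : 2 ≤ q)
    (hΨ : ∀ b, Ψ (Φ b) = Φ (mAct Pm (fun i => b i ^ q)))
    (hcen : ∀ κ ∈ Subgroup.center (D.SteinbergGroup k), Ψ κ = κ)
    (hlift : ∀ x : G0, ∃ x', Ψ x' = x' ∧ theta hp.inList k x' = e0 x)
    {c : Fin D.rank → kˣ} (hc : ∀ s < D.nroots, ∏ i : Fin D.rank, c i ^ D.cartan i s = 1) (hc1 : c ≠ 1)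
    (S : Sylow p G0) (htor : ∃ z : ↥(D.group k), ∀ x ∈ (S : Subgroup G0), z * e0 x * z⁻¹ ∈ TT D k) :
    ∃ (P : Sylow p G0) (y0 : ↥(D.group k)), σ y0 = y0 ∧ y0 ∉ e0.range ∧
      ∀ x ∈ (P : Subgroup G0), y0 * e0 x = e0 x * y0 := by
  obtain ⟨y, a, w, h1, h2, h3, h4, h5⟩ := exists_frame hp hk r hset.inj hset.e_pos hset.frob hset.fr hset.fix
    (p := p) hset.p_mem S htor
  obtain ⟨hN, h5⟩ := rp_congr (TL_eq hp hk) h5
  obtain ⟨s, hs, hns, hnot⟩ := exists_not_mem hp M.toCoxeterSystem hΦ e0 σ Ψ hθΨ hq2 hΨ hcen hlift hc hc1 h5 rfl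
  refine ⟨a • S, y * s * y⁻¹, ?_, hnot, fun x hx => ?_⟩
  · rw [map_mul, map_mul, map_inv]
    have h6 : σ s = (y⁻¹ * σ y)⁻¹ * s * (y⁻¹ * σ y) := by
      conv_rhs => rw [← hns]
      group
    rw [h6]
    group
  · have hx' : a⁻¹ * x * a ∈ (S : Subgroup G0) := by
      rw [Sylow.coe_subgroup_smul, Subgroup.mem_pointwise_smul_iff_inv_smul_mem, ← map_inv, MulAut.smul_def,
        MulAut.conj_apply, inv_inv] at hx
      exact hx
    have h6 := h1 _ hx'
    rw [cf_apply] at h6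
    have h7 : a * (a⁻¹ * x * a) * a⁻¹ = x := by group
    rw [h7] at h6
    have h8 := TT_comm hp _ hs _ h6
    calc y * s * y⁻¹ * e0 x = y * (s * (y⁻¹ * e0 x * y)) * y⁻¹ := by group
      _ = y * ((y⁻¹ * e0 x * y) * s) * y⁻¹ := by rw [h8]
      _ = _ := by group

end Cen

end Cfsg.Agent.H299.AO
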