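import Mathlib
import Cfsg.Agent.H508.KB.Defs

/-!
# S4822, AO7: tools for `AbOut`

* `OutComm` : all commutators of automorphisms are inner; `OutComm.abOut`, `OutComm.congr`;
* `abOut_congr` : transport of `AbOut`.
-/

set_option autoImplicit false

namespace Cfsg.Agent.H299.AO

open Cfsg Subgroup Cfsg.Agent.H508.KB

universe u v

/-- all commutators of automorphisms are inner -/
def OutComm (S : Type u) [Group S] : Prop :=
  ∀ α β : MulAut S, ∃ s : S, ∀ x, (α * β * α⁻¹ * β⁻¹) x = s * x * s⁻¹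

theorem OutComm.abOut {S : Type u} [Group S] (h : OutComm S) (p : ℕ) : AbOut p S := by
  intro P A _ _ α _ β _
  obtain ⟨s, hs⟩ := h α β
  exact ⟨s, fun x _ => hs x⟩

theorem congr_apply {S : Type u} {T : Type v} [Group S] [Group T] (e : S ≃* T) (α : MulAut S) (x : T) :
    MulAut.congr e α x = e (α (e.symm x)) := rfl

theorem OutComm.congr {S : Type u} {T : Type v} [Group S] [Group T] (e : S ≃* T) (h : OutComm T) : OutComm S := by
  intro α β
  obtain ⟨s, hs⟩ := h (MulAut.congr e α) (MulAut.congr e β)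
  refine ⟨e.symm s, fun x => ?_⟩
  have h1 := hs (e x)
  rw [← map_inv, ← map_inv, ← map_mul, ← map_mul, ← map_mul, congr_apply, e.symm_apply_apply] at h1
  apply e.injective
  rw [h1, map_mul, map_mul, map_inv, e.apply_symm_apply]

theorem abOut_congr {p : ℕ} [Fact p.Prime] {S : Type u} {T : Type v} [Group S] [Group T] [Finite S] [Finite T]
    (e : S ≃* T) (h : AbOut p T) : AbOut p S := by
  intro P A hA hidx α hα β hβ
  let c : MulAut S ≃* MulAut T := MulAut.congr e
  have hr : (MulAut.conj : S →* MulAut S).range.map c.toMonoidHom = (MulAut.conj : T →* MulAut T).range := by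
    ext γ
    constructor
    · rintro ⟨_, ⟨s, rfl⟩, rfl⟩
      refine ⟨e s, ?_⟩
      ext x
      show e s * x * (e s)⁻¹ = e (s * e.symm x * s⁻¹)
      rw [map_mul, map_mul, map_inv, e.apply_symm_apply]
    · rintro ⟨t, rfl⟩
      refine ⟨MulAut.conj (e.symm t), ⟨_, rfl⟩, ?_⟩
      ext x
      show e (e.symm t * e.symm x * (e.symm t)⁻¹) = t * x * t⁻¹
      rw [map_mul, map_mul, map_inv, e.apply_symm_apply, e.apply_symm_apply]
  obtain ⟨s, hs⟩ := h (P.mapSurjective (f := e.toMonoidHom) e.surjective) (A.map c.toMonoidHom) (by rw [← hr]; exact Subgroup.map_mono hA)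
    (by
      rw [← hr, Subgroup.relIndex_map_map_of_injective _ _ c.injective]
      exact hidx) (c α) ⟨α, hα, rfl⟩ (c β) ⟨β, hβ, rfl⟩
  refine ⟨e.symm s, fun x hx => ?_⟩
  have h1 := hs (e x) ⟨x, hx, rfl⟩
  rw [← map_inv, ← map_inv, ← map_mul, ← map_mul, ← map_mul] at h1
  have h2 : c (α * β * α⁻¹ * β⁻¹) (e x) = e ((α * β * α⁻¹ * β⁻¹) x) := by
    show e ((α * β * α⁻¹ * β⁻¹) (e.symm (e x))) = _
    rw [e.symm_apply_apply]
  rw [h2] at h1
  apply e.injective
  rw [h1, map_mul, map_mul, map_inv, e.apply_symm_apply]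

end Cfsg.Agent.H299.AO
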