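import Cfsg.Agent.H299.AO.Base
import Cfsg.Agent.H69.OutTwD4
import Cfsg.Agent.Lib.AutSL2Out

/-!
# S4822, AO7: `AbOut` for `³D₄(q)`

* `comm_of_rel` : commutators of automorphisms, from a relation with an abelian group (the field automorphisms);
* `outComm_3D4` : commutators of automorphisms of `³D₄(q)` are inner.
-/

set_option autoImplicit false
set_option linter.unusedSectionVars false

namespace Cfsg.Agent.H299.AO

open CoxeterSystem Cfsg.Agent.ChevalleyStructure.CoxeterGeom Cfsg.Agent.Tits.Roots Cfsg.Agent.Tits.Core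
  Cfsg.Agent.Tits.Exchange Cfsg.Agent.Nodes.Reps Cfsg.Agent.Nodes.BNOf Cfsg.Agent.Nodes.StabComb
  Cfsg.Agent.Nodes.Bruhat Cfsg.Agent.Nodes.OppDec Cfsg.Agent.Nodes.RGDTwGen Cfsg.Agent.Nodes.RGDChev
  Cfsg.Agent.Nodes.RGDFold Cfsg.Agent.Nodes.RGDFoldSL
open Cfsg.Agent.KFacts.RgdOpp Cfsg.Agent.KFacts.RgdAut Cfsg.Agent.KFacts.RgdDiag Cfsg.Agent.KFacts.RgdRigid
  Cfsg.Agent.KFacts.RgdField Cfsg.Agent.KFacts.RgdTau Cfsg.Agent.KFacts.RgdNodes
open Cfsg.Lie Cfsg.Agent.ChevalleyStructure Cfsg.Agent.ChevalleyStructure.Elts Cfsg.Agent.ChevStructure.FieldMap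
open Cfsg.Agent.ChevalleyStructure.SL2Hom (up lo)
open Cfsg.Agent.KFacts.TwDFour.Out
open Cfsg.Agent.Nodes.RGDTwD4 Cfsg.Agent.Nodes.RGDTwNode.D4
open Cfsg.Agent.ParSys.Fam.D4 (hf)
open Cfsg.Agent.CpAut.RgdTwStd
open Cfsg.Agent.H69.OutCount Cfsg.Agent.H69.OutTwD4

universe u v

theorem mul_conj {Y : Type u} [Group Y] (γ : MulAut Y) (g : Y) : γ * MulAut.conj g = MulAut.conj (γ g) * γ := by
  ext x
  simp [MulAut.mul_apply, MulAut.conj_apply]

/-- Commutators of automorphisms, from a relation with an abelian group. -/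
theorem comm_of_rel {Y : Type u} [Group Y] [Finite Y] {Γ : Type v} [Group Γ] (hΓ : ∀ a b : Γ, a * b = b * a)
    {Rel : MulAut Y → Γ → Prop} (hone : Rel 1 1) (huniq : ∀ β τ τ', Rel β τ → Rel β τ' → τ = τ')
    (hmul : ∀ β τ β' τ', Rel β τ → Rel β' τ' → Rel (β * β') (τ * τ'))
    (hex : ∀ α, ∃ g τ, Rel (MulAut.conj g * α) τ) {Q : MulAut Y → Prop} (hQ : ∀ β, Rel β 1 → Q β)
    (hQc : ∀ a b β, Q β → Q (MulAut.conj a * β * MulAut.conj b)) (α β : MulAut Y) : Q (α * β * α⁻¹ * β⁻¹) := by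
  have hpow : ∀ (γ : MulAut Y) (τ : Γ) (n : ℕ), Rel γ τ → Rel (γ ^ n) (τ ^ n) := by
    intro γ τ n h
    induction n with
    | zero => rw [pow_zero, pow_zero]; exact hone
    | succ n ih => rw [pow_succ, pow_succ]; exact hmul _ _ _ _ ih h
  have hinv : ∀ (γ : MulAut Y) (τ : Γ), Rel γ τ → Rel γ⁻¹ τ⁻¹ := by
    intro γ τ h
    have h0 : 0 < orderOf γ := orderOf_pos γ
    have h1 : γ ^ (orderOf γ - 1) * γ = 1 := by
      rw [← pow_succ, Nat.sub_add_cancel h0, pow_orderOf_eq_one]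
    have h2 : τ ^ (orderOf γ - 1) * τ = 1 := by
      have h3 := hpow γ τ (orderOf γ - 1 + 1) h
      rw [pow_succ, h1] at h3
      rw [pow_succ] at h3
      exact huniq 1 _ _ h3 hone
    rw [← eq_inv_of_mul_eq_one_left h1, ← eq_inv_of_mul_eq_one_left h2]
    exact hpow γ τ _ h
  obtain ⟨a, τ, ha⟩ := hex α
  obtain ⟨b, σ, hb⟩ := hex β
  set α' := MulAut.conj a * α with hα'
  set β' := MulAut.conj b * β with hβ'
  have hα : α = MulAut.conj a⁻¹ * α' := by rw [hα', map_inv]; group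
  have hβ : β = MulAut.conj b⁻¹ * β' := by rw [hβ', map_inv]; group
  have h1 : Rel (α' * β' * α'⁻¹ * β'⁻¹) 1 := by
    have h2 := hmul _ _ _ _ (hmul _ _ _ _ (hmul _ _ _ _ ha hb) (hinv _ _ ha)) (hinv _ _ hb)
    have h3 : τ * σ * τ⁻¹ * σ⁻¹ = 1 := by rw [hΓ τ σ]; group
    rwa [h3] at h2
  have h2 := hQc (a⁻¹ * α' b⁻¹) (b⁻¹ * β' a⁻¹)⁻¹ _ (hQ _ h1)
  have e1 : α * β = MulAut.conj (a⁻¹ * α' b⁻¹) * (α' * β') := by
    rw [hα, hβ, map_mul]
    calc MulAut.conj a⁻¹ * α' * (MulAut.conj b⁻¹ * β') = MulAut.conj a⁻¹ * (α' * MulAut.conj b⁻¹) * β' := by group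
      _ = MulAut.conj a⁻¹ * (MulAut.conj (α' b⁻¹) * α') * β' := by rw [mul_conj]
      _ = _ := by group
  have e2 : β * α = MulAut.conj (b⁻¹ * β' a⁻¹) * (β' * α') := by
    rw [hα, hβ, map_mul]
    calc MulAut.conj b⁻¹ * β' * (MulAut.conj a⁻¹ * α') = MulAut.conj b⁻¹ * (β' * MulAut.conj a⁻¹) * α' := by group
      _ = MulAut.conj b⁻¹ * (MulAut.conj (β' a⁻¹) * β') * α' := by rw [mul_conj]
      _ = _ := by group
  have e3 : α * β * α⁻¹ * β⁻¹ = MulAut.conj (a⁻¹ * α' b⁻¹) * (α' * β' * α'⁻¹ * β'⁻¹) *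
      MulAut.conj (b⁻¹ * β' a⁻¹)⁻¹ := by
    have e4 : MulAut.conj (b⁻¹ * β' a⁻¹)⁻¹ = (MulAut.conj (b⁻¹ * β' a⁻¹))⁻¹ := map_inv _ _
    rw [e4]
    calc α * β * α⁻¹ * β⁻¹ = (α * β) * (β * α)⁻¹ := by group
      _ = _ := by
        rw [e1, e2, mul_inv_rev, mul_inv_rev]
        simp only [mul_assoc]
  rw [e3]
  exact h2

/-- **`Out(³D₄(q))` is abelian.** -/
theorem outComm_3D4 {K : Type u} [Field K] [Fintype K] {q : ℕ} (hq : IsPrimePow q) (hK : Fintype.card K = q ^ 3)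
    (p : ℕ) [Fact p.Prime] [CharP K p] : OutComm ↥(twistedD4 K q) := by
  obtain ⟨φ, hφ⟩ := D4Fixed.exists_frob hq hK
  let cs : CoxeterSystem CoxeterMatrix.G₂ CoxeterMatrix.G₂.Group := CoxeterMatrix.G₂.toCoxeterSystem
  have hfin : Finite CoxeterMatrix.G₂.Group := finiteW cs
  have R := Cfsg.Agent.Nodes.RGDTwD4.rgd cs hK hφ p
  have hG1 : RGD.Sup (X φ q) {x | IsRoot cs isCartan x} = ⊤ := G1_eq_top cs hK hφ
  have hT := card_T hq hK
  -- the kernel
  have h2 : Nat.card {β : MulAut ↥(twistedD4 K q) // DTau hφ hK β 1} ≤ Nat.card ↥(T K q) := by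
    refine le_trans (card_scalar_le R hG1 (coordD hφ hK) (Q := fun β => DTau hφ hK β 1) fun β S => ⟨S.diag, fun i => ?_⟩) ?_
    · have hS : NTau (T K q) (X φ q) (chD hφ hK) β 1 := ⟨S.diag, fun i t ht => Subtype.ext (S.char i t ht)⟩
      obtain ⟨c, hc, e⟩ := NTau.semi (coordD hφ hK) hS i
      exact ⟨c, hc, fun a => e a⟩
    · rw [hT, Fin.prod_univ_two, mul_comm]
      have e1 : Nat.card (KD φ 1) = q ^ 3 := by
        rw [F3_eq_top hK hφ, ← hK, ← Nat.card_eq_fintype_card]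
        exact Nat.card_congr Subfield.topEquiv.toEquiv
      have e0 : Nat.card (KD φ 0) - 1 = q - 1 := by
        rw [← D4H1.card_fixed hq.one_lt hK hφ, ← Nat.card_units]
        have key : ∀ b : (KD φ 0), φ (b : K) = b := fun b => (mem_Fx.1 b.2)
        refine Nat.card_congr
          { toFun := fun b => ⟨Units.map (KD φ 0).subtype.toMonoidHom b, key b⟩
            invFun := fun b => Units.mk0 ⟨(b.1 : K), mem_Fx.2 b.2⟩ (fun h => b.1.ne_zero (congrArg Subtype.val h))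
            left_inv := fun b => Units.ext rfl
            right_inv := fun b => Subtype.ext (Units.ext rfl) }
      rw [e0, e1]
  let ι : ↥(T K q) → {β : MulAut ↥(twistedD4 K q) // DTau hφ hK β 1} := fun t =>
    ⟨MulAut.conj t.1, dtau_conj hφ hK cs p t.2⟩
  have hinj : Function.Injective ι := by
    intro s t hst
    have h4 : MulAut.conj s.1 = MulAut.conj t.1 := congrArg Subtype.val hst
    apply Subtype.ext
    have h5 : s.1⁻¹ * t.1 ∈ Subgroup.center ↥(twistedD4 K q) := by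
      rw [Subgroup.mem_center_iff]
      intro y
      have h6 := DFunLike.congr_fun h4 y
      rw [MulAut.conj_apply, MulAut.conj_apply] at h6
      have h7 : y * (s.1⁻¹ * t.1) = s.1⁻¹ * (s.1 * y * s.1⁻¹) * t.1 := by group
      rw [h7, h6]; group
    rw [center_eq_bot hq hK, Subgroup.mem_bot] at h5
    exact inv_mul_eq_one.1 h5
  have hsurj : Function.Surjective ι := by
    have := Fintype.ofFinite ↥(T K q)
    have := Fintype.ofFinite {β : MulAut ↥(twistedD4 K q) // DTau hφ hK β 1}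
    refine ((Fintype.bijective_iff_injective_and_card ι).2 ⟨hinj, ?_⟩).2
    rw [← Nat.card_eq_fintype_card, ← Nat.card_eq_fintype_card]
    exact le_antisymm (Nat.card_le_card_of_injective _ hinj) h2
  have key := comm_of_rel (Γ := K ≃+* K) (fun a b => Cfsg.Agent.Lib.AutSL2Out.ringEquiv_comm a b)
    (Rel := DTau hφ hK) (DTau.one hφ hK)
    (fun β τ τ' S S' => S.unique hφ hK S') (fun β τ β' τ' S S' => S.mul hφ hK S')
    (fun α => by
      obtain ⟨g, σ, D⟩ := exists_diag_conj R hG1 α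
      have hσ : σ = 1 := by
        apply perm_G2 σ
        intro h3
        have h4 := Diag.card_eq D 0
        rw [h3] at h4
        exact card_ne hφ hK hq.one_lt h4
      subst hσ
      obtain ⟨τ, S⟩ := exists_dtau hφ hK cs p D
      exact ⟨g, τ, S⟩)
    (Q := fun γ => ∃ s, γ = MulAut.conj s)
    (fun β S => by
      obtain ⟨t, ht⟩ := hsurj ⟨β, S⟩
      exact ⟨t.1, (congrArg Subtype.val ht).symm⟩)
    (by
      rintro a b _ ⟨s, rfl⟩
      exact ⟨a * s * b, by rw [map_mul, map_mul]⟩)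
  intro α β
  obtain ⟨s, hs⟩ := key α β
  exact ⟨s, fun x => by rw [hs, MulAut.conj_apply]⟩

theorem ab_3D4 (p : ℕ) [Fact p.Prime] (S : Type u) [Group S] {K : Type} [Field K] [Fintype K] {r : ℕ} [Fact r.Prime]
    [CharP K r] {q : ℕ} (hq : IsPrimePow q) (hK : Fintype.card K = q ^ 3) (e : S ≃* twistedD4 K q) :
    Cfsg.Agent.H508.KB.AbOut p S :=
  (OutComm.congr e (outComm_3D4 hq hK r)).abOut p

end Cfsg.Agent.H299.AO
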