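import Cfsg.Agent.H299.AO.Lift
import Cfsg.Agent.H299.AO.ThreeD4

/-!
# S4822, AO7: `AbOut` for `²E₆(q)`, `p ≥ 7`

Commutators of automorphisms are inner-diagonal, and the inner-diagonal automorphisms act on the (toral) Sylow
`p`-subgroups as inner automorphisms.
-/

set_option autoImplicit false
set_option linter.unusedSectionVars false
set_option maxHeartbeats 400000

namespace Cfsg.Agent.H299.AO

open CoxeterSystem Cfsg Cfsg.Lie Cfsg.Lie.ChevalleyDatum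
open Cfsg.Agent.ChevalleyStructure Cfsg.Agent.ChevalleyStructure.Elts Cfsg.Agent.ChevalleyStructure.CoxeterGeom
  Cfsg.Agent.ChevalleyStructure.CoxeterGeomTypes Cfsg.Agent.ChevalleyStructure.NPerm
open Cfsg.Agent.Tits.Roots Cfsg.Agent.Tits.Core Cfsg.Agent.Nodes Cfsg.Agent.Nodes.Reps Cfsg.Agent.Nodes.BNOf
  Cfsg.Agent.Nodes.RGDChev Cfsg.Agent.Nodes.Bruhat
open Cfsg.Agent.KFacts.RgdField Cfsg.Agent.KFacts.RgdChevCoord Cfsg.Agent.BpExc.TorCent Cfsg.Agent.BpExc.TorChev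
open Cfsg.Agent.GpExc.Field Cfsg.Agent.BpExc.Tow Cfsg.Agent.BpExc.TowChev Cfsg.Agent.BpExc.Fr
  Cfsg.Agent.BpExc.LangFr Cfsg.Agent.BpExc Cfsg.Agent.H129.TorusChar
  Cfsg.Agent.H129.StCover Cfsg.Agent.H129.StTw Cfsg.Agent.H129.StTwT
open Cfsg.Agent.ChevalleyStructure.StBasic Cfsg.Agent.ChevalleyStructure.StTheta
open Cfsg.Agent.H795.Reduce Cfsg.Agent.H795.Core Cfsg.Agent.H720.TwFr Cfsg.Agent.BpExc.FamInst
open Cfsg.Agent.KFacts.TwESix.NodeCoord Cfsg.Agent.KFacts.TwESix.Out Cfsg.Agent.KFacts.TwESix.OutTwo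
open Cfsg.Agent.Nodes.RGDTwE6 Cfsg.Agent.Nodes.RGDTwNode.E6

universe u v

theorem sig6_eq_tau {k : Type u} [Field k] [IsAlgClosed k] (r n : ℕ) [Fact r.Prime] [CharP k r] :
    sig6 k r n = Cfsg.Agent.H129.TwE6Fr.tau k r n := by
  ext y : 1
  apply Subtype.ext
  rw [coe_sig6, Cfsg.Agent.H129.TwE6Fr.coe_tau]

section

variable {K : Type u} [Field K] [Fintype K] {q : ℕ} {k : Type u} [Field k] [IsAlgClosed k] (f : K →+* k)
  (r : ℕ) [Fact r.Prime] [CharP k r]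

/-- **Some fixed point centralises a Sylow subgroup and does not lie in `²E₆(q)`, `3 ∣ q + 1`.** -/
theorem exists_cen_six {n : ℕ} (hk : LocFin k) (hn0 : 0 < n) (hn : q = r ^ n) (hK : Fintype.card K = q ^ 2) {p : ℕ}
    [hpp : Fact p.Prime] (hp3 : p ≠ 3) (h3 : 3 ∣ q + 1) (S : Sylow p ↥(twistedE6 K q))
    (htor : ∃ z : ↥(chevE6.group k), ∀ x ∈ (S : Subgroup ↥(twistedE6 K q)), z * em6 q f x * z⁻¹ ∈ TT chevE6 k) :
    ∃ (P : Sylow p ↥(twistedE6 K q)) (y0 : ↥(chevE6.group k)), sig6 k r n y0 = y0 ∧ y0 ∉ (em6 q f).range ∧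
      ∀ x ∈ (P : Subgroup ↥(twistedE6 K q)), y0 * em6 q f x = em6 q f x * y0 := by
  have hrp : r.Prime := Fact.out
  have hq : IsPrimePow q := (isPrimePow_nat_iff _).2 ⟨r, n, hrp, hn0, hn.symm⟩
  have hset := Cfsg.Agent.H795.Tw.setup_six f r hk hn0 hn hK (p := p) hp3
  -- the centre
  have hr3 : ¬ r ∣ 3 := fun h => by
    have h7 : r ∣ r ^ n + 1 := by rw [← hn]; exact h.trans h3
    have h8 : r ∣ 1 := (Nat.dvd_add_right (dvd_pow_self r hn0.ne')).1 h7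
    exact hrp.one_lt.ne' (Nat.dvd_one.1 h8)
  have hdk : ((3 : ℕ) : k) ≠ 0 := by
    rw [Ne, CharP.cast_eq_zero_iff k r]
    exact hr3
  have : NeZero ((3 : ℕ) : k) := ⟨hdk⟩
  obtain ⟨ζ, hζ⟩ := HasEnoughRootsOfUnity.exists_primitiveRoot k 3
  have hζ0 : ζ ≠ 0 := hζ.ne_zero (by norm_num)
  set ω : kˣ := Units.mk0 ζ hζ0 with hω
  have hωd : ω ^ 3 = 1 := Units.ext (by rw [Units.val_pow_eq_pow_val]; exact hζ.pow_eq_one)
  have hω1 : ω ≠ 1 := by
    intro h1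
    have h3 : ζ = 1 := congrArg Units.val h1
    rw [h3] at hζ
    exact absurd (hζ.eq_orderOf.trans orderOf_one) (by norm_num)
  obtain ⟨Φ, hΦ⟩ := Cfsg.Agent.H129.PhiE.isPhi_E6 k
  have hΨ : ∀ b : Fin chevE6.rank → kˣ,
      stSg (iterateFrobenius k r n) (Φ b) = Φ (mAct Pm (fun i => b i ^ q)) := by
    intro b
    rw [stSg_phi hΦ]
    refine congrArg Φ (funext fun i => Units.ext ?_)
    rw [mAct_Pm, Units.val_pow_eq_pow_val, hn]
    exact iterateFrobenius_def _ _ _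
  refine exists_cen hp6 hk hΦ hset (stSg (iterateFrobenius k r n)) (fun x => ?_) hq.two_le hΨ ?_ (fun x => ?_)
    (cen_of hωd) (cen_ne hω1) S htor
  · rw [sig6_eq_tau]
    exact theta_stSg x
  · intro κ hκ
    obtain ⟨a, rfl⟩ := hΦ.center_le hκ
    have h2 := cen_fix h3 ((hΦ.mem_iff a).1 hκ)
    rw [hΨ]
    refine congrArg Φ (funext fun i => ?_)
    rw [mAct_Pm]
    exact h2 i
  · obtain ⟨x', h1, h2⟩ := lift_tw f hn hq hK x
    refine ⟨x', h1, h2.trans (Subtype.ext ?_)⟩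
    rw [Cfsg.Agent.H129.TwE6Fr.coe_embT]
    rfl

/-- **All fixed points act on the toral Sylow subgroups as elements of `²E₆(q)`.** -/
theorem act_six {n : ℕ} (hk : LocFin k) (hn0 : 0 < n) (hn : q = r ^ n) (hK : Fintype.card K = q ^ 2) {p : ℕ}
    [hpp : Fact p.Prime] (hp3 : p ≠ 3) (P : Sylow p ↥(twistedE6 K q))
    (htor : ∃ z : ↥(chevE6.group k), ∀ x ∈ (P : Subgroup ↥(twistedE6 K q)), z * em6 q f x * z⁻¹ ∈ TT chevE6 k)
    {y : ↥(chevE6.group k)} (hy : sig6 k r n y = y) :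
    ∃ s, ∀ x ∈ (P : Subgroup ↥(twistedE6 K q)), y * em6 q f x * y⁻¹ = em6 q f (s * x * s⁻¹) := by
  have hrp : r.Prime := Fact.out
  have hq : IsPrimePow q := (isPrimePow_nat_iff _).2 ⟨r, n, hrp, hn0, hn.symm⟩
  have hset := Cfsg.Agent.H795.Tw.setup_six f r hk hn0 hn hK (p := p) hp3
  have hd := desc6 f r hk hn0 hn hK hy
  by_cases h3 : 3 ∣ q + 1
  swap
  · rw [((Nat.prime_three.coprime_iff_not_dvd).2 h3 : Nat.gcd 3 (q + 1) = 1), pow_one] at hd
    obtain ⟨s, rfl⟩ := hd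
    exact ⟨s, fun x _ => by rw [map_mul, map_mul, map_inv]⟩
  obtain ⟨P', y0, h1, h2, h3'⟩ := exists_cen_six f r hk hn0 hn hK hp3 h3 P htor
  refine act_inner hset.fix (p := p) (fun y hy => ?_) P' h3' P hy
  have cs := CoxeterMatrix.E₆.toCoxeterSystem
  have hφ : ∀ t : k, iterateFrobenius k r n t = t ^ q := fun t => by rw [iterateFrobenius_def, hn]
  obtain ⟨hfin, hdvd⟩ := card_fixT hp6 cs hn0 (isFrob_sig6 (k := k) r n) (fr_sig6 hk r hp6 cs n) (m := 4)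
    ![1, 3, 0, 2] ![1, 1, 2, 2] (by decide) (by
      intro a
      fin_cases a <;> · funext i; fin_cases i <;> rfl) (by
      intro i
      fin_cases i
      · exact ⟨2, 0, rfl⟩
      · exact ⟨0, 0, rfl⟩
      · exact ⟨3, 0, rfl⟩
      · exact ⟨1, 0, rfl⟩
      · exact ⟨3, 1, by funext i; fin_cases i <;> rfl⟩
      · exact ⟨2, 1, by funext i; fin_cases i <;> rfl⟩)
  rw [← hn] at hdvd
  have hcard := Cfsg.Agent.S1102.result (K := K) hq hK
  have hprod : ∏ a : Fin 4, (q ^ (![1, 1, 2, 2] : Fin 4 → ℕ) a - 1) = (q - 1) ^ 4 * (q + 1) ^ 2 := by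
    rw [Fin.prod_univ_four]
    show (q ^ 1 - 1) * (q ^ 1 - 1) * (q ^ 2 - 1) * (q ^ 2 - 1) = _
    have h1 : q ^ 2 - 1 = (q - 1) * (q + 1) := by
      have := Nat.sq_sub_sq q 1
      rw [one_pow] at this
      rw [this, mul_comm]
    rw [h1, pow_one]
    ring
  rw [hprod] at hdvd
  let ι : ↥(chevE6.diagonalSubgroup K ⊓ twistedE6 K q) →* ↥(chevE6.group k) :=
    (em6 q f).comp (Subgroup.inclusion inf_le_right)
  have hTT : ∀ h, ι h ∈ TT chevE6 k := fun h =>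
    Cfsg.Agent.GpExc.Field.emb_T hp6 f ⟨⟨(h : GL chevE6.Idx K), _⟩, h.2.1, rfl⟩
  have hιinj : Function.Injective ι := (Cfsg.Agent.BpExc.FamTw.Six.em_injective f).comp
    (Subgroup.inclusion_injective _)
  refine exists_pow_of_split (A := fixT chevE6 k (sig6 k r n)) hset.norm (fun t ht => ht.2) hfin ?_
    (H := ι.range) ?_ ?_ Nat.prime_three ?_ h1 h2 hy
  · intro y hy
    obtain ⟨x, hx, t, ht, e⟩ := Cfsg.Agent.BpExc.EmbInst.twE6_split (f := f) hq hK hφ y.2 (by rw [← coe_sig6, hy])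
    have htG : t ∈ chevE6.group k := diagonal_le_group hp6.inList k ht
    have e' : y = em6 q f ⟨x, hx⟩ * ⟨t, htG⟩ := Subtype.ext e
    refine ⟨⟨x, hx⟩, ⟨t, htG⟩, ⟨ht, ?_⟩, e'⟩
    show sig6 k r n ⟨t, htG⟩ = ⟨t, htG⟩
    have h5 := hy
    rw [e', map_mul, hset.fix] at h5
    exact mul_left_cancel h5
  · rintro _ ⟨h, rfl⟩
    exact ⟨hTT h, hset.fix _⟩
  · rintro _ ⟨h, rfl⟩
    exact ⟨_, rfl⟩
  · rw [← Nat.card_congr (MonoidHom.ofInjective hιinj).toEquiv]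
    have h5 : Nat.gcd 3 (q + 1) = 3 := Nat.gcd_eq_left h3
    rw [h5] at hcard
    rw [hcard]
    exact hdvd

end

/-! ### automorphisms -/

section

variable {K : Type u} [Field K] [Fintype K] {q : ℕ}

theorem st_one (g : ↥(twistedE6 K q)) : Cfsg.Agent.CpAut.RgdTwE6.st q (1 : K ≃+* K) g = g := by
  apply Subtype.ext
  have h1 : ((Cfsg.Agent.CpAut.RgdTwE6.st q (1 : K ≃+* K) g : ↥(twistedE6 K q)) : GL chevE6.Idx K) =
      Cfsg.Agent.ChevStructure.FieldMap.glEquiv chevE6 (1 : K ≃+* K) g :=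
    Cfsg.Agent.CpAut.RgdTwStd.coe_fldG _ _ g
  rw [h1]
  apply Units.ext
  rw [Cfsg.Agent.ChevStructure.FieldMap.glEquiv_coe]
  ext i j
  rfl

/-- **`AbOut` for `²E₆(q)`, `p ≥ 7`.** -/
theorem abOut_2E6 (hq : IsPrimePow q) (hK : Fintype.card K = q ^ 2) {p : ℕ} [hpp : Fact p.Prime] (h7 : 7 ≤ p)
    (hpK : (p : K) ≠ 0) : Cfsg.Agent.H508.KB.AbOut p ↥(twistedE6 K q) := by
  obtain ⟨r, n, hr, hrF, hrk, hn0, hn, hk⟩ := Cfsg.Agent.H795.Tw.exists_closure_q two_ne_zero hq hK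
  have hpr : p ≠ r := by
    rintro rfl
    exact hpK (CharP.cast_eq_zero K p)
  have hrp : r.Prime := hr.out
  let k := AlgebraicClosure K
  let f : K →+* k := algebraMap K k
  obtain ⟨φ, hφ, hqq⟩ := Cfsg.Agent.ChevalleyStructure.TwE6Basic.exists_frob hq hK
  let cs := CoxeterMatrix.F₄.toCoxeterSystem
  have hfinW : Finite CoxeterMatrix.F₄.Group :=
    Cfsg.Agent.Nodes.RGDFold.finite_W (hp := Cfsg.Agent.Nodes.RGDTwE6.hp) cs isCartan foldData
  have R := Cfsg.Agent.Nodes.RGDTwE6.rgd cs hφ hqq r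
  have hG1 := G1_top cs hφ hqq
  have hG := Cfsg.Agent.KFacts.RgdRigid.GG_eq_top (T := T K q) hG1
  intro P A _ _ α _ β _
  -- the commutator is inner-diagonal
  have key := comm_of_rel (Γ := K ≃+* K) (fun a b => Cfsg.Agent.Lib.AutSL2Out.ringEquiv_comm a b)
    (Rel := FTau hφ hqq) (FTau.one hφ hqq)
    (fun β τ τ' S S' => S.unique hφ hqq S') (fun β τ β' τ' S S' => S.mul hφ hqq S')
    (fun α => by
      obtain ⟨a, s, D⟩ := Cfsg.Agent.BpExc.FamTw.exists_frame_any R hG α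
      have hs1 : s = 1 := by
        apply perm_F4 s (D.matrix R)
        intro h3
        have h4 := Cfsg.Agent.KFacts.RgdNodes.Diag.card_eq D 0
        rw [h3] at h4
        exact card_ne hφ hqq hK hq.one_lt h4
      subst hs1
      obtain ⟨τ, S⟩ := exists_ftau hφ hqq cs r D
      exact ⟨a, τ, S⟩)
    (Q := fun γ => ∃ a, FTau hφ hqq (MulAut.conj a * γ) 1)
    (fun β S => ⟨1, by rwa [map_one, one_mul]⟩)
    (by
      rintro a b γ ⟨c, hc⟩
      refine ⟨c * (a * γ b)⁻¹, ?_⟩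
      have e : MulAut.conj (c * (a * γ b)⁻¹) * (MulAut.conj a * γ * MulAut.conj b) = MulAut.conj c * γ := by
        rw [mul_assoc (MulAut.conj a), mul_conj, ← mul_assoc (MulAut.conj a), ← map_mul, ← mul_assoc, ← map_mul,
          inv_mul_cancel_right]
      rwa [e])
    α β
  obtain ⟨b, hb⟩ := key
  obtain ⟨a, τ, y, S, hy, hg⟩ := Cfsg.Agent.BpExc.FamTw.Six.exists_lift hφ hqq cs r f hK hq.one_lt
    (fun a => IsAlgClosed.exists_pow_nat_eq _ (by norm_num)) (Φ := Cfsg.Agent.BpExc.FamField.frb k r n)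
    (fun a => by rw [Cfsg.Agent.BpExc.FamField.frb_apply, hφ, map_pow, hn]) (α * β * α⁻¹ * β⁻¹)
  have hτ : τ = 1 := Cfsg.Agent.BpExc.FamTw.Six.ftau_unique hφ hqq cs r S hb
  subst hτ
  have hy' : sig6 k r n y = y := hy
  -- torality
  have hinj := Cfsg.Agent.BpExc.FamTw.Six.em_injective (q := q) f
  have htor : ∃ z : ↥(chevE6.group k), ∀ x ∈ (P : Subgroup ↥(twistedE6 K q)), z * em6 q f x * z⁻¹ ∈ TT chevE6 k := by
    have hfin : Finite ↥((P : Subgroup ↥(twistedE6 K q)).map (em6 q f)) :=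
      Finite.of_surjective _ ((em6 q f).subgroupMap_surjective (P : Subgroup ↥(twistedE6 K q)))
    obtain ⟨z, hz⟩ := Cfsg.Agent.H795.TorSub.exists_toral_of_not_dvd hp6 r hk hpp.out hpr (by
        rw [Cfsg.Agent.H795.RowsA.card_E6]
        intro h
        have h1 : p ∣ 2 ^ 7 * (3 ^ 4 * 5) := by
          norm_num
          exact h
        rcases (hpp.out.dvd_mul).1 h1 with h2 | h2
        · have := (Nat.prime_dvd_prime_iff_eq hpp.out Nat.prime_two).1 (hpp.out.dvd_of_dvd_pow h2)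
          omega
        rcases (hpp.out.dvd_mul).1 h2 with h2 | h2
        · have := (Nat.prime_dvd_prime_iff_eq hpp.out Nat.prime_three).1 (hpp.out.dvd_of_dvd_pow h2)
          omega
        · have := (Nat.prime_dvd_prime_iff_eq hpp.out Nat.prime_five).1 h2
          omega) (Q := (P : Subgroup ↥(twistedE6 K q)).map (em6 q f)) (P.2.map _)
    exact ⟨z, fun x hx => hz _ ⟨x, hx, rfl⟩⟩
  obtain ⟨s, hs⟩ := act_six f r hk hn0 hn hK (by omega) P htor hy'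
  refine ⟨s, fun x hx => ?_⟩
  apply hinj
  rw [← hs x hx, hg, st_one]

theorem ab_tw (p : ℕ) [Fact p.Prime] (S : Type u) [Group S] [Finite S] [IsSimpleGroup S] {r : ℕ} [hr : Fact r.Prime]
    (hrp : r ≠ p) (h7 : 7 ≤ p) (h : IsTwistedE6D4Char r S) : Cfsg.Agent.H508.KB.AbOut p S := by
  obtain ⟨K, _, _, _, q, hq, ⟨hK, ⟨e⟩⟩ | ⟨hK, ⟨e⟩⟩⟩ := h
  · refine abOut_congr e (abOut_2E6 hq hK h7 ?_)
    rw [Ne, CharP.cast_eq_zero_iff K r]
    intro h
    exact hrp ((Nat.prime_dvd_prime_iff_eq hr.out Fact.out).1 h)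
  · exact ab_3D4 p S (r := r) hq hK e

end

end Cfsg.Agent.H299.AO
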