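import Cfsg.Agent.H299.AO.Base
import Cfsg.Agent.S2128
import Cfsg.Agent.Lib.AutSL2Out

/-!
# S4822, AO7: `AbOut` for `²F₄(q)`

All automorphisms are products of inner and field automorphisms.
-/

set_option autoImplicit false

namespace Cfsg.Agent.H299.AO

open Cfsg Cfsg.Lie Cfsg.Agent.H508.KB Cfsg.Agent.S2128
open Cfsg.Agent.ChevStructure.FieldMap Cfsg.Agent.ChevalleyStructure.TwF4.Rel
  Cfsg.Agent.ChevalleyStructure.TwF4.TwistedFix Cfsg.Agent.Octagon.KRel Cfsg.Agent.KFacts.TwF4.Inst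
  Cfsg.Agent.KFacts.TwF4 Cfsg.Agent.TitsThree.RankTwoZ

universe u

/-- **`Out(²F₄(q))` is abelian.** -/
theorem outComm_2F4 {K : Type u} [Field K] [Fintype K] {m : ℕ} (hm : 1 ≤ m) (hK : Fintype.card K = 2 ^ (2 * m + 1)) :
    OutComm ↥(twistedF4 K (2 ^ m)) := by
  have hch : CharP K 2 := Cfsg.Agent.ChevalleyStructure.TwF4.Twisted.charP_two hK
  have hf2 : Fact (Nat.Prime 2) := ⟨Nat.prime_two⟩
  obtain ⟨φ, hφ⟩ := exists_rln hK
  have hF : ∃ c : Kˣ, c ≠ 1 := by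
    have h1 : 1 < Nat.card Kˣ := by
      rw [Nat.card_units, Nat.card_eq_fintype_card, hK]
      have : 2 ^ 3 ≤ 2 ^ (2 * m + 1) := Nat.pow_le_pow_right (by norm_num) (by omega)
      omega
    have : Nontrivial Kˣ := Finite.one_lt_card_iff_nontrivial.1 h1
    exact exists_ne 1
  let S := full hK hφ
  let Φ : (K ≃+* K) → MulAut ↥(twistedF4 K (2 ^ m)) := fun τ => fld τ (2 ^ m)
  have hΦo : ∀ τ a t, Φ τ (S.o a t) = S.o a (τ t) := fun τ a t => fld_ro τ hφ a t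
  have hΦe : ∀ τ a p u, Φ τ (S.e a p u) = S.e a (τ p) (τ u) := fun τ a p u => fld_re τ hφ a p u
  have hform : ∀ α : MulAut ↥(twistedF4 K (2 ^ m)), ∃ k τ, α = MulAut.conj k * Φ τ := by
    intro α
    obtain ⟨k, τ0, ho, he⟩ := AutNorm.aut_form S hF rfl α
    obtain ⟨τ, hτ⟩ : ∃ τ : K ≃+* K, ∀ x, τ x = τ0 x :=
      ⟨RingEquiv.ofBijective τ0 (Finite.injective_iff_bijective.1 τ0.injective), fun _ => rfl⟩
    refine ⟨k, τ, aut_ext S ?_ ?_⟩
    · intro a t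
      rw [ho, MulAut.mul_apply, hΦo, MulAut.conj_apply, hτ]
    · intro a p u
      rw [he, MulAut.mul_apply, hΦe, MulAut.conj_apply, hτ, hτ]
  have hcomm : ∀ σ τ : K ≃+* K, Φ σ * Φ τ = Φ τ * Φ σ := by
    intro σ τ
    have h1 : ∀ x, σ (τ x) = τ (σ x) := fun x => DFunLike.congr_fun (Cfsg.Agent.Lib.AutSL2Out.ringEquiv_comm σ τ) x
    refine aut_ext S ?_ ?_
    · intro a t
      rw [MulAut.mul_apply, MulAut.mul_apply, hΦo, hΦo, hΦo, hΦo, h1]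
    · intro a p u
      rw [MulAut.mul_apply, MulAut.mul_apply, hΦe, hΦe, hΦe, hΦe, h1, h1]
  intro α β
  obtain ⟨k, σ, rfl⟩ := hform α
  obtain ⟨l, τ, rfl⟩ := hform β
  have hk : ∀ (γ : MulAut ↥(twistedF4 K (2 ^ m))) (g : ↥(twistedF4 K (2 ^ m))),
      γ * MulAut.conj g = MulAut.conj (γ g) * γ := by
    intro γ g
    ext x
    simp [MulAut.mul_apply, MulAut.conj_apply]
  refine ⟨k * Φ σ l * (Φ (τ) k)⁻¹ * l⁻¹, fun x => ?_⟩
  have e : MulAut.conj k * Φ σ * (MulAut.conj l * Φ τ) * (MulAut.conj k * Φ σ)⁻¹ * (MulAut.conj l * Φ τ)⁻¹ =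
      MulAut.conj (k * Φ σ l * (Φ τ k)⁻¹ * l⁻¹) := by
    have h1 : MulAut.conj k * Φ σ * (MulAut.conj l * Φ τ) = MulAut.conj (k * Φ σ l) * (Φ σ * Φ τ) := by
      rw [map_mul]
      calc MulAut.conj k * Φ σ * (MulAut.conj l * Φ τ) = MulAut.conj k * (Φ σ * MulAut.conj l) * Φ τ := by group
        _ = MulAut.conj k * (MulAut.conj (Φ σ l) * Φ σ) * Φ τ := by rw [hk]
        _ = _ := by group
    have h2 : MulAut.conj l * Φ τ * (MulAut.conj k * Φ σ) = MulAut.conj (l * Φ τ k) * (Φ σ * Φ τ) := by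
      rw [map_mul, hcomm σ τ]
      calc MulAut.conj l * Φ τ * (MulAut.conj k * Φ σ) = MulAut.conj l * (Φ τ * MulAut.conj k) * Φ σ := by group
        _ = MulAut.conj l * (MulAut.conj (Φ τ k) * Φ τ) * Φ σ := by rw [hk]
        _ = _ := by group
    calc MulAut.conj k * Φ σ * (MulAut.conj l * Φ τ) * (MulAut.conj k * Φ σ)⁻¹ * (MulAut.conj l * Φ τ)⁻¹ =
        (MulAut.conj k * Φ σ * (MulAut.conj l * Φ τ)) * (MulAut.conj l * Φ τ * (MulAut.conj k * Φ σ))⁻¹ := by group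
      _ = MulAut.conj (k * Φ σ l * (Φ τ k)⁻¹ * l⁻¹) := by
        rw [h1, h2, mul_inv_rev, ← mul_assoc, mul_inv_cancel_right, ← map_inv, ← map_mul, mul_inv_rev, ← mul_assoc]
  rw [e, MulAut.conj_apply]

theorem ab_2F4 (p : ℕ) [Fact p.Prime] (S : Type u) [Group S] [Finite S] [IsSimpleGroup S] (_h5 : 5 ≤ p)
    (h : Lie.Iso2F4 S) : AbOut p S := by
  obtain ⟨K, _, _, m, hm, hK, ⟨e⟩⟩ := h
  exact (OutComm.congr e (outComm_2F4 hm hK)).abOut p

end Cfsg.Agent.H299.AO
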